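import Mathlib

/-!
An extension of valuation rings is etale as soon as it is etale after localization at a prime
and modulo the same prime.
-/

universe u

open TensorProduct

namespace Groth.Agent.ValEtPrimeLib

theorem dvd_of_mem_of_notMem {A : Type*} [CommRing A] [IsDomain A] [ValuationRing A]
    {p : Ideal A} {x t : A} (hx : x ∈ p) (ht : t ∉ p) [p.IsPrime] :
    ∃ y ∈ p, x = t * y := by
  rcases ValuationRing.dvd_total x t with h | ⟨y, rfl⟩
  · exact absurd (p.mem_of_dvd h hx) ht
  · exact ⟨y, (‹p.IsPrime›.mem_or_mem hx).resolve_left ht, rfl⟩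

/-- Clearing denominators in an adjoined subalgebra. -/
theorem exists_smul_mem_of_mem_adjoin {A R C : Type*} [CommRing A] [CommRing R] [CommRing C]
    [Algebra A R] [Algebra A C] [Algebra R C] [IsScalarTower A R C] (M : Submonoid A)
    (hR : ∀ r : R, ∃ t ∈ M, ∃ a : A, t • r = algebraMap A R a)
    (T : Subalgebra A C) (G : Set C) (hG : ∀ g ∈ G, ∃ t ∈ M, t • g ∈ T)
    {u : C} (hu : u ∈ Algebra.adjoin R G) : ∃ t ∈ M, t • u ∈ T := by
  induction hu using Algebra.adjoin_induction with
  | mem g hg => exact hG g hg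
  | algebraMap r =>
    obtain ⟨t, ht, a, ha⟩ := hR r
    refine ⟨t, ht, ?_⟩
    rw [Algebra.algebraMap_eq_smul_one, ← smul_assoc, ha, ← Algebra.algebraMap_eq_smul_one,
      ← IsScalarTower.algebraMap_apply]
    exact T.algebraMap_mem a
  | add x y _ _ hx hy =>
    obtain ⟨t, ht, hx⟩ := hx
    obtain ⟨s, hs, hy⟩ := hy
    refine ⟨t * s, mul_mem ht hs, ?_⟩
    rw [smul_add]
    refine add_mem ?_ ?_
    · rw [mul_comm, mul_smul]; exact T.smul_mem hx s
    · rw [mul_smul]; exact T.smul_mem hy t
  | mul x y _ _ hx hy =>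
    obtain ⟨t, ht, hx⟩ := hx
    obtain ⟨s, hs, hy⟩ := hy
    refine ⟨t * s, mul_mem ht hs, ?_⟩
    rw [← smul_mul_smul_comm]
    exact mul_mem hx hy

theorem etale_of_localRingHom_of_quotientMap {A B : Type u} [CommRing A] [CommRing B]
    [IsDomain A] [IsDomain B] [ValuationRing A] [ValuationRing B] [Algebra A B]
    (hinj : Function.Injective (algebraMap A B)) (P : Ideal B) [P.IsPrime]
    (hA : (Localization.localRingHom (Ideal.comap (algebraMap A B) P) P
      (algebraMap A B) rfl).Etale)
    (hB : (Ideal.quotientMap P (algebraMap A B)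
      (le_refl (Ideal.comap (algebraMap A B) P))).Etale) :
    Algebra.Etale A B := by
  classical
  let p := Ideal.comap (algebraMap A B) P
  have : p.IsPrime := Ideal.comap_isPrime _ _
  let Ap := Localization.AtPrime p
  let BP := Localization.AtPrime P
  let φ : Ap →+* BP := Localization.localRingHom p P (algebraMap A B) rfl
  letI : Algebra Ap BP := φ.toAlgebra
  haveI : IsScalarTower A Ap BP := IsScalarTower.of_algebraMap_eq fun a => by
    rw [RingHom.algebraMap_toAlgebra, IsScalarTower.algebraMap_apply A B BP]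
    exact (Localization.localRingHom_to_map p P (algebraMap A B) rfl a).symm
  haveI hEt : Algebra.Etale Ap BP := hA
  haveI : IsLocalHom (algebraMap Ap BP) :=
    inferInstanceAs (IsLocalHom (Localization.localRingHom p P (algebraMap A B) rfl))
  letI : Algebra (A ⧸ p) (B ⧸ P) := (Ideal.quotientMap P (algebraMap A B) le_rfl).toAlgebra
  haveI : IsScalarTower A (A ⧸ p) (B ⧸ P) := IsScalarTower.of_algebraMap_eq fun a => rfl
  haveI hEt2 : Algebra.Etale (A ⧸ p) (B ⧸ P) := hB
  haveI : Algebra.FormallyUnramified A (B ⧸ P) :=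
    haveI : Algebra.FormallyUnramified A (A ⧸ p) := .quotient _
    .comp A (A ⧸ p) (B ⧸ P)
  -- multiplication by a nonzero scalar is injective
  have hcancel : ∀ (a : A) (b c : B), a ≠ 0 → a • b = a • c → b = c := by
    intro a b c ha h
    rw [Algebra.smul_def, Algebra.smul_def] at h
    exact mul_left_cancel₀ ((map_ne_zero_iff _ hinj).mpr ha) h
  haveI hflat : Module.Flat A B := by
    rw [Module.Flat.flat_iff_torsion_eq_bot_of_isBezout, eq_bot_iff]
    intro b hb
    obtain ⟨⟨a, ha⟩, hab⟩ := (Submodule.mem_torsion_iff b).mp hb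
    exact hcancel a b 0 (nonZeroDivisors.ne_zero ha) (by rw [smul_zero]; exact hab)
  have hpne : ∀ t : A, t ∉ p → t ≠ 0 := fun t ht h => ht (h ▸ p.zero_mem)
  -- every element outside `P` divides an element outside `p`
  have hdiv : ∀ s : B, s ∉ P → ∃ t : A, t ∉ p ∧ s ∣ algebraMap A B t := by
    intro s hs
    let k := IsLocalRing.ResidueField Ap
    let l := IsLocalRing.ResidueField BP
    let g : B →ₐ[A] l := IsScalarTower.toAlgHom A B l
    have hsu : IsUnit (algebraMap B BP s) := IsLocalization.map_units BP (⟨s, hs⟩ : P.primeCompl)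
    have hσ : g s ≠ 0 := by
      have hg : g s = IsLocalRing.residue BP (algebraMap B BP s) :=
        IsScalarTower.algebraMap_apply B BP l s
      rw [hg]
      exact (hsu.map (IsLocalRing.residue BP)).ne_zero
    haveI : Module.Finite k l := inferInstance
    have halg : IsAlgebraic k (g s) := (Algebra.IsAlgebraic.of_finite k l).isAlgebraic _
    have hinv : (g s)⁻¹ ∈ Algebra.adjoin k ({g s} : Set l) := by
      exact Subalgebra.inv_mem_of_algebraic _ (x := ⟨g s, Algebra.self_mem_adjoin_singleton k _⟩)
        halg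
    have hk : ∀ r : k, ∃ t ∈ p.primeCompl, ∃ a : A, t • r = algebraMap A k a := by
      intro r
      obtain ⟨r, rfl⟩ := IsLocalRing.residue_surjective r
      obtain ⟨⟨a, t⟩, h⟩ := IsLocalization.surj p.primeCompl r
      refine ⟨t.1, t.2, a, ?_⟩
      rw [Algebra.smul_def, IsScalarTower.algebraMap_apply A Ap k,
        IsScalarTower.algebraMap_apply A Ap k, mul_comm]
      show IsLocalRing.residue Ap r * IsLocalRing.residue Ap _ = IsLocalRing.residue Ap _
      rw [← map_mul]
      exact congrArg _ h
    obtain ⟨t, ht, b, hb⟩ := exists_smul_mem_of_mem_adjoin (A := A) p.primeCompl hk g.range {g s}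
      (by rintro _ rfl; exact ⟨1, one_mem _, by rw [one_smul]; exact ⟨s, rfl⟩⟩) hinv
    have hb' : g b = t • (g s)⁻¹ := hb
    have hgt : g (s * b - algebraMap A B t) = 0 := by
      rw [map_sub, map_mul, hb', AlgHom.commutes, mul_smul_comm, mul_inv_cancel₀ hσ,
        ← Algebra.algebraMap_eq_smul_one, sub_self]
    have hz : s * b - algebraMap A B t ∈ P := by
      have hg : g (s * b - algebraMap A B t)
          = IsLocalRing.residue BP (algebraMap B BP (s * b - algebraMap A B t)) :=
        IsScalarTower.algebraMap_apply B BP l _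
      rw [hg, IsLocalRing.residue_eq_zero_iff,
        IsLocalization.AtPrime.to_map_mem_maximal_iff BP P] at hgt
      exact hgt
    refine ⟨t, ht, ?_⟩
    rcases ValuationRing.dvd_total s (s * b - algebraMap A B t) with h | h
    · have := dvd_sub (dvd_mul_right s b) h
      simpa using this
    · exact absurd (P.mem_of_dvd h hz) hs
  haveI hloc : IsLocalization (Algebra.algebraMapSubmonoid B p.primeCompl) BP := by
    refine (IsLocalization.iff_of_le_of_exists_dvd (S := BP)
      (M := Algebra.algebraMapSubmonoid B p.primeCompl) P.primeCompl ?_ ?_).mpr inferInstance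
    · rintro _ ⟨t, ht, rfl⟩; exact ht
    · intro s hs
      obtain ⟨t, ht, h⟩ := hdiv s hs
      exact ⟨_, ⟨t, ht, rfl⟩, h⟩
  have hBinj : Function.Injective (algebraMap B BP) :=
    IsLocalization.injective BP P.primeCompl_le_nonZeroDivisors
  -- `p B ≤ t p B`, hence `P = p B`
  have hsub : ∀ t : A, t ∉ p → ∀ z ∈ p.map (algebraMap A B),
      ∃ z' ∈ p.map (algebraMap A B), z = algebraMap A B t * z' := by
    intro t ht z hz
    refine Submodule.span_induction
      (p := fun z _ => ∃ z' ∈ p.map (algebraMap A B), z = algebraMap A B t * z') ?_ ?_ ?_ ?_ hz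
    · rintro _ ⟨x, hx, rfl⟩
      obtain ⟨y, hy, rfl⟩ := dvd_of_mem_of_notMem hx ht
      exact ⟨_, Ideal.mem_map_of_mem _ hy, map_mul _ _ _⟩
    · exact ⟨0, Ideal.zero_mem _, (mul_zero _).symm⟩
    · rintro x y - - ⟨x', hx', rfl⟩ ⟨y', hy', rfl⟩
      exact ⟨x' + y', add_mem hx' hy', (mul_add _ _ _).symm⟩
    · rintro b x - ⟨x', hx', rfl⟩
      exact ⟨b * x', Ideal.mul_mem_left _ b hx', by rw [smul_eq_mul]; ring⟩
  have hP : P = p.map (algebraMap A B) := by
    refine le_antisymm (fun y hy => ?_) Ideal.map_comap_le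
    have h1 : algebraMap B BP y ∈ (p.map (algebraMap A B)).map (algebraMap B BP) := by
      rw [Ideal.map_map, ← IsScalarTower.algebraMap_eq, IsScalarTower.algebraMap_eq A Ap BP,
        ← Ideal.map_map, Localization.AtPrime.map_eq_maximalIdeal,
        Algebra.FormallyUnramified.map_maximalIdeal]
      exact (IsLocalization.AtPrime.to_map_mem_maximal_iff BP P y).mpr hy
    rw [IsLocalization.algebraMap_mem_map_algebraMap_iff
      (Algebra.algebraMapSubmonoid B p.primeCompl) BP] at h1
    obtain ⟨_, ⟨t, ht, rfl⟩, h1⟩ := h1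
    obtain ⟨z', hz', h2⟩ := hsub t ht _ h1
    rwa [mul_left_cancel₀ ((map_ne_zero_iff _ hinj).mpr (hpne t ht)) h2]
  have hAp : ∀ r : Ap, ∃ t ∈ p.primeCompl, ∃ a : A, t • r = algebraMap A Ap a := by
    intro r
    obtain ⟨⟨a, t⟩, h⟩ := IsLocalization.surj p.primeCompl r
    exact ⟨t.1, t.2, a, by rw [Algebra.smul_def, mul_comm]; exact h⟩
  -- finite type
  obtain ⟨G, hG⟩ := (inferInstance : Algebra.FiniteType Ap BP).out
  obtain ⟨D, hD⟩ := (inferInstance : Algebra.FiniteType (A ⧸ p) (B ⧸ P)).out
  have hnum : ∀ u : BP, ∃ c : B, ∃ t ∈ p.primeCompl, t • u = algebraMap B BP c := by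
    intro u
    obtain ⟨⟨c, ⟨_, t, ht, rfl⟩⟩, h⟩ :=
      IsLocalization.surj (Algebra.algebraMapSubmonoid B p.primeCompl) u
    refine ⟨c, t, ht, ?_⟩
    rw [Algebra.smul_def, IsScalarTower.algebraMap_apply A B BP, mul_comm]
    exact h
  choose num den hden hnum using hnum
  choose lift hlift using (Ideal.Quotient.mk_surjective : Function.Surjective (Ideal.Quotient.mk P))
  let S : Finset B := G.image num ∪ D.image lift
  let B' : Subalgebra A B := Algebra.adjoin A (S : Set B)
  have hB1 : ∀ b : B, ∃ t ∈ p.primeCompl, t • b ∈ B' := by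
    intro b
    let T : Subalgebra A BP := B'.map (IsScalarTower.toAlgHom A B BP)
    obtain ⟨t, ht, c, hc, hce⟩ := exists_smul_mem_of_mem_adjoin (A := A) p.primeCompl hAp T
      (G : Set BP) (fun g hg => ⟨den g, hden g, num g,
        Algebra.subset_adjoin (Finset.mem_union_left _ (Finset.mem_image_of_mem num hg)),
        (hnum g).symm⟩) (u := algebraMap B BP b) (hG ▸ Algebra.mem_top)
    refine ⟨t, ht, ?_⟩
    have : c = t • b := hBinj (hce.trans (by
      rw [Algebra.smul_def, Algebra.smul_def, map_mul, ← IsScalarTower.algebraMap_apply]))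
    rwa [← this]
  have hpB : ∀ z ∈ p.map (algebraMap A B), z ∈ B' := by
    intro z hz
    suffices ∀ c : B, c * z ∈ B' by simpa using this 1
    refine Submodule.span_induction (p := fun z _ => ∀ c : B, c * z ∈ B') ?_ ?_ ?_ ?_ hz
    · rintro _ ⟨x, hx, rfl⟩ c
      obtain ⟨t, ht, htc⟩ := hB1 c
      obtain ⟨y, -, rfl⟩ := dvd_of_mem_of_notMem hx ht
      have : c * algebraMap A B (t * y) = y • (t • c) := by
        rw [Algebra.smul_def, Algebra.smul_def, map_mul]; ring
      rw [this]
      exact B'.smul_mem htc y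
    · intro c; rw [mul_zero]; exact B'.zero_mem
    · intro x y _ _ hx hy c; rw [mul_add]; exact add_mem (hx c) (hy c)
    · intro b x _ hx c; rw [smul_eq_mul, ← mul_assoc]; exact hx _
  have hB2 : ∀ b : B, b ∈ B' := by
    intro b
    obtain ⟨t, ht, c, hc, hce⟩ := exists_smul_mem_of_mem_adjoin (A := A) (⊥ : Submonoid A)
      (fun r => ⟨1, one_mem _, (Ideal.Quotient.mk_surjective r).choose, by
        rw [one_smul]; exact (Ideal.Quotient.mk_surjective r).choose_spec.symm⟩)
      (B'.map (Ideal.Quotient.mkₐ A P)) (D : Set (B ⧸ P))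
      (fun d hd => ⟨1, one_mem _, lift d,
        Algebra.subset_adjoin (Finset.mem_union_right _ (Finset.mem_image_of_mem lift hd)),
        by rw [one_smul]; exact hlift d⟩) (u := Ideal.Quotient.mk P b) (hD ▸ Algebra.mem_top)
    rw [Submonoid.mem_bot.mp ht, one_smul] at hce
    have h2 : b - c ∈ P := (Ideal.Quotient.mk_eq_mk_iff_sub_mem b c).mp hce.symm
    rw [hP] at h2
    simpa using add_mem (hpB _ h2) hc
  let f : MvPolynomial S A →ₐ[A] B := MvPolynomial.aeval fun i => (i : B)
  have hf : Function.Surjective f := by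
    intro b
    have : b ∈ ((MvPolynomial.aeval (fun i : S => (i : B))) :
        MvPolynomial S A →ₐ[A] B).range := by
      rw [← Algebra.adjoin_range_eq_range_aeval,
        show Set.range (fun i : S => (i : B)) = (S : Set B) from Subtype.range_coe]
      exact hB2 b
    exact this
  -- finite presentation
  haveI : Algebra.FinitePresentation A B := by
    let I := RingHom.ker f.toRingHom
    -- modulo `p`
    let π1 : MvPolynomial S A →+* MvPolynomial S (A ⧸ p) := MvPolynomial.map (Ideal.Quotient.mk p)
    have hπ1 : Function.Surjective π1 := MvPolynomial.map_surjective _ Ideal.Quotient.mk_surjective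
    let f1 : MvPolynomial S (A ⧸ p) →ₐ[A ⧸ p] B ⧸ P :=
      MvPolynomial.aeval fun i => Ideal.Quotient.mk P (i : B)
    have hcomm1 : ∀ F, f1 (π1 F) = Ideal.Quotient.mk P (f F) := by
      intro F
      simp only [f1, π1, f, MvPolynomial.aeval_def, MvPolynomial.eval₂_map,
        MvPolynomial.hom_eval₂]
      rfl
    have hf1 : Function.Surjective f1 := by
      intro u
      obtain ⟨b, rfl⟩ := Ideal.Quotient.mk_surjective u
      obtain ⟨F, rfl⟩ := hf b
      exact ⟨π1 F, hcomm1 F⟩
    have hk1 : RingHom.ker f1.toRingHom = I.map π1 := by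
      refine le_antisymm (fun g hg => ?_) (Ideal.map_le_iff_le_comap.mpr fun F hF => ?_)
      · obtain ⟨F, rfl⟩ := hπ1 g
        have hFP : f F ∈ P := by
          rw [← Ideal.Quotient.eq_zero_iff_mem, ← hcomm1]; exact hg
        have hmap : p.map (algebraMap A B)
            = (p.map (MvPolynomial.C : A →+* MvPolynomial S A)).map f.toRingHom := by
          rw [Ideal.map_map]; congr 1
          exact (AlgHom.comp_algebraMap f).symm
        rw [hP, hmap] at hFP
        obtain ⟨H, hH, hHF⟩ := (Ideal.mem_map_iff_of_surjective _ hf).mp hFP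
        have hH0 : π1 H = 0 := by
          refine MvPolynomial.ext _ _ fun m => ?_
          rw [MvPolynomial.coeff_map, MvPolynomial.coeff_zero, Ideal.Quotient.eq_zero_iff_mem]
          exact MvPolynomial.mem_map_C_iff.mp hH m
        have : π1 F = π1 (F - H) := by rw [map_sub, hH0, sub_zero]
        rw [this]
        exact Ideal.mem_map_of_mem _ (by
          show f (F - H) = 0
          rw [map_sub, sub_eq_zero]; exact hHF.symm)
      · show f1 (π1 F) = 0
        rw [hcomm1, show f F = 0 from hF, map_zero]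
    -- after localization
    let π2 : MvPolynomial S A →+* MvPolynomial S Ap := MvPolynomial.map (algebraMap A Ap)
    let f2 : MvPolynomial S Ap →ₐ[Ap] BP := MvPolynomial.aeval fun i => algebraMap B BP (i : B)
    have hcomm2 : ∀ F, f2 (π2 F) = algebraMap B BP (f F) := by
      intro F
      simp only [f2, π2, f, MvPolynomial.aeval_def, MvPolynomial.eval₂_map,
        MvPolynomial.hom_eval₂]
      rw [← IsScalarTower.algebraMap_eq, ← IsScalarTower.algebraMap_eq]
    letI : Algebra (MvPolynomial S A) (MvPolynomial S Ap) := π2.toAlgebra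
    haveI hloc2 : IsLocalization (p.primeCompl.map (MvPolynomial.C : A →+* MvPolynomial S A))
        (MvPolynomial S Ap) := MvPolynomial.isLocalization p.primeCompl Ap
    have hf2 : Function.Surjective f2 := by
      intro u
      obtain ⟨F, hF⟩ := hf (num u)
      have hun : IsUnit (algebraMap A Ap (den u)) :=
        IsLocalization.map_units Ap (⟨den u, hden u⟩ : p.primeCompl)
      refine ⟨MvPolynomial.C ((hun.unit⁻¹ : Apˣ) : Ap) * π2 F, ?_⟩
      rw [map_mul, hcomm2, hF, ← hnum, MvPolynomial.aeval_C, Algebra.smul_def,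
        IsScalarTower.algebraMap_apply A Ap BP, ← mul_assoc, ← map_mul, IsUnit.val_inv_mul,
        map_one, one_mul]
    have hk2 : RingHom.ker f2.toRingHom = I.map π2 := by
      refine le_antisymm (fun g hg => ?_) (Ideal.map_le_iff_le_comap.mpr fun F hF => ?_)
      · obtain ⟨⟨F, d⟩, hd⟩ := IsLocalization.surj
          (p.primeCompl.map (MvPolynomial.C : A →+* MvPolynomial S A)) g
        have hFI : F ∈ I := by
          show f F = 0
          refine hBinj ?_
          rw [← hcomm2, map_zero]
          have : f2 (π2 F) = f2 g * f2 (π2 d.1) := by rw [← map_mul]; exact congrArg f2 hd.symm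
          rw [this, show f2 g = 0 from hg, zero_mul]
        have hu : IsUnit (π2 d.1) := IsLocalization.map_units (MvPolynomial S Ap) d
        have hgd : g * π2 d.1 ∈ I.map π2 := by
          have : g * π2 d.1 = π2 F := hd
          rw [this]; exact Ideal.mem_map_of_mem _ hFI
        exact (Ideal.mul_unit_mem_iff_mem _ hu).mp hgd
      · show f2 (π2 F) = 0
        rw [hcomm2, show f F = 0 from hF, map_zero]
    have hfg1 : (I.map π1).FG := hk1 ▸ Algebra.FinitePresentation.ker_fG_of_surjective f1 hf1
    have hfg2 : (I.map π2).FG := hk2 ▸ Algebra.FinitePresentation.ker_fG_of_surjective f2 hf2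
    -- finitely many elements of `I` generate both images
    have hlift : ∀ {R : Type u} [CommRing R] (g : MvPolynomial S A →+* R), (I.map g).FG →
        ∃ J ≤ I, J.FG ∧ J.map g = I.map g := by
      intro R _ g hfg
      obtain ⟨s, hs, hs'⟩ := Submodule.fg_span_iff_fg_span_finset_subset _ |>.mp
        (show (Submodule.span R (g '' (I : Set (MvPolynomial S A)))).FG from hfg)
      obtain ⟨s₀, hs₀, hcard⟩ := Finset.subset_set_image_iff.mp hs
      refine ⟨Ideal.span s₀, Ideal.span_le.mpr hs₀, ⟨s₀, rfl⟩, ?_⟩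
      rw [Ideal.map_span, ← Finset.coe_image, hcard]
      exact hs'.symm
    obtain ⟨J1, hJ1, hJ1fg, hJ1m⟩ := hlift π1 hfg1
    obtain ⟨J2, hJ2, hJ2fg, hJ2m⟩ := hlift π2 hfg2
    have hI : I = J1 ⊔ J2 := by
      refine le_antisymm (fun F hF => ?_) (sup_le hJ1 hJ2)
      have h1 : π1 F ∈ J1.map π1 := by rw [hJ1m]; exact Ideal.mem_map_of_mem _ hF
      obtain ⟨F1, hF1, hF1e⟩ := (Ideal.mem_map_iff_of_surjective _ hπ1).mp h1
      suffices F - F1 ∈ J2 by
        have h := add_mem (Ideal.mem_sup_left (T := J2) hF1) (Ideal.mem_sup_right (S := J1) this)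
        rwa [add_sub_cancel] at h
      set r := F - F1
      have hrI : f r = 0 := by
        rw [map_sub, show f F = 0 from hF, show f F1 = 0 from hJ1 hF1, sub_zero]
      have hr0 : ∀ m, r.coeff m ∈ p := by
        intro m
        rw [← Ideal.Quotient.eq_zero_iff_mem, ← MvPolynomial.coeff_map]
        show MvPolynomial.coeff m (π1 (F - F1)) = 0
        rw [map_sub, hF1e, sub_self, MvPolynomial.coeff_zero]
      let K : Ideal A := Ideal.span (r.support.image fun m => r.coeff m : Set A)
      obtain ⟨x, hx⟩ := (IsBezout.isPrincipal_of_FG K ⟨_, rfl⟩).1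
      have hxp : x ∈ p := by
        have hKp : K ≤ p := Ideal.span_le.mpr (by
          intro a ha
          simp only [Finset.coe_image, Set.mem_image] at ha
          obtain ⟨m, _, rfl⟩ := ha
          exact hr0 m)
        exact hKp (hx ▸ Submodule.mem_span_singleton_self x)
      have hrK : r ∈ K.map (MvPolynomial.C : A →+* MvPolynomial S A) := by
        rw [MvPolynomial.mem_map_C_iff]
        intro m
        by_cases hm : m ∈ r.support
        · exact Ideal.subset_span (Finset.mem_coe.mpr (Finset.mem_image_of_mem _ hm))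
        · rw [MvPolynomial.notMem_support_iff.mp hm]; exact K.zero_mem
      rw [hx, Ideal.submodule_span_eq, Ideal.map_span, Set.image_singleton,
        Ideal.mem_span_singleton] at hrK
      obtain ⟨r', hr'⟩ := hrK
      by_cases hx0 : x = 0
      · rw [hr', hx0, map_zero, zero_mul]; exact J2.zero_mem
      have hr'I : r' ∈ I := by
        show f r' = 0
        refine hcancel x _ 0 hx0 ?_
        rw [smul_zero, ← hrI, hr', map_mul, ← MvPolynomial.algebraMap_eq, AlgHom.commutes,
          Algebra.smul_def]
      have h2 : algebraMap (MvPolynomial S A) (MvPolynomial S Ap) r' ∈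
          J2.map (algebraMap (MvPolynomial S A) (MvPolynomial S Ap)) := by
        show π2 r' ∈ J2.map π2
        rw [hJ2m]; exact Ideal.mem_map_of_mem _ hr'I
      rw [IsLocalization.algebraMap_mem_map_algebraMap_iff
        (p.primeCompl.map (MvPolynomial.C : A →+* MvPolynomial S A))] at h2
      obtain ⟨_, ⟨t, ht, rfl⟩, h2⟩ := h2
      obtain ⟨y, -, rfl⟩ := dvd_of_mem_of_notMem hxp ht
      rw [hr', map_mul, mul_comm (MvPolynomial.C t), mul_assoc]
      exact J2.mul_mem_left _ h2
    exact Algebra.FinitePresentation.of_surjective (f := f) hf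
      (show I.FG from hI ▸ Submodule.FG.sup hJ1fg hJ2fg)
  -- unramified
  haveI : Algebra.FormallyUnramified A B := by
    refine ⟨?_⟩
    haveI : Algebra.FormallyUnramified A Ap :=
      Algebra.FormallyUnramified.of_isLocalization p.primeCompl
    haveI : Algebra.FormallyUnramified A BP := .comp A Ap BP
    refine subsingleton_of_forall_eq 0 fun ω => ?_
    have hsm : ω ∈ P • (⊤ : Submodule B Ω[B⁄A]) := by
      have hzero : KaehlerDifferential.kerCotangentToTensor A B (B ⧸ P) = 0 := by
        refine LinearMap.ext fun c => ?_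
        obtain ⟨⟨z, hz⟩, rfl⟩ := Ideal.toCotangent_surjective _ c
        rw [KaehlerDifferential.kerCotangentToTensor_toCotangent, LinearMap.zero_apply]
        show (1 : B ⧸ P) ⊗ₜ[B] KaehlerDifferential.D A B z = 0
        have hz' : z ∈ p.map (algebraMap A B) := by
          rw [← hP]; simpa [RingHom.mem_ker, Ideal.Quotient.eq_zero_iff_mem] using hz
        refine Submodule.span_induction
          (p := fun z _ => (1 : B ⧸ P) ⊗ₜ[B] KaehlerDifferential.D A B z = 0) ?_ ?_ ?_ ?_ hz'
        · rintro _ ⟨x, -, rfl⟩; rw [Derivation.map_algebraMap, tmul_zero]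
        · rw [map_zero, tmul_zero]
        · intro x y _ _ hx hy; rw [map_add, tmul_add, hx, hy, add_zero]
        · intro b x hx hx0
          have hxP : x ∈ P := hP ▸ hx
          rw [smul_eq_mul, Derivation.leibniz, tmul_add, tmul_smul, hx0, smul_zero, zero_add,
            ← smul_tmul]
          rw [show x • (1 : B ⧸ P) = 0 by
            rw [Algebra.smul_def, Ideal.Quotient.algebraMap_eq,
              Ideal.Quotient.eq_zero_iff_mem.mpr hxP, zero_mul], zero_tmul]
      have hex := (KaehlerDifferential.exact_kerCotangentToTensor_mapBaseChange A B (B ⧸ P)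
        Ideal.Quotient.mk_surjective) ((1 : B ⧸ P) ⊗ₜ[B] ω)
      obtain ⟨c, hc⟩ := hex.mp (Subsingleton.elim _ _)
      rw [hzero, LinearMap.zero_apply] at hc
      have := congrArg (TensorProduct.quotTensorEquivQuotSMul (Ω[B⁄A]) P) hc
      rw [map_zero, ← map_one (Ideal.Quotient.mk P),
        TensorProduct.quotTensorEquivQuotSMul_mk_tmul, one_smul] at this
      exact (Submodule.Quotient.mk_eq_zero _).mp this.symm
    have hloc3 : ∀ η : Ω[B⁄A], ∃ t ∉ p, t • η = 0 := by
      intro η
      obtain ⟨⟨_, t, ht, rfl⟩, h⟩ := (IsLocalizedModule.eq_zero_iff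
        (Algebra.algebraMapSubmonoid B p.primeCompl)
        (KaehlerDifferential.map A A B BP) (m := η)).mp (Subsingleton.elim _ _)
      refine ⟨t, ht, ?_⟩
      rw [Submonoid.smul_def, algebraMap_smul] at h
      exact h
    refine Submodule.smul_induction_on hsm (fun z hz η _ => ?_) (fun x y hx hy => by
      rw [hx, hy, add_zero])
    rw [hP] at hz
    suffices ∀ η : Ω[B⁄A], z • η = 0 from this η
    refine Submodule.span_induction (p := fun z _ => ∀ η : Ω[B⁄A], z • η = 0) ?_ ?_ ?_ ?_ hz
    · rintro _ ⟨x, hx, rfl⟩ η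
      obtain ⟨t, ht, hη⟩ := hloc3 η
      obtain ⟨y, -, rfl⟩ := dvd_of_mem_of_notMem hx ht
      rw [algebraMap_smul, mul_comm, mul_smul, hη, smul_zero]
    · intro η; rw [zero_smul]
    · intro x y _ _ hx hy η; rw [add_smul, hx, hy, add_zero]
    · intro b x _ hx η; rw [smul_eq_mul, mul_smul, hx, smul_zero]
  exact Algebra.Etale.of_formallyUnramified_of_flat

end Groth.Agent.ValEtPrimeLib
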